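import Cfsg.Agent.Hn3.C

/-! The 3-local characterization of HN: finite checks in `A₅` and on the module of order 81. -/

set_option autoImplicit false
set_option maxRecDepth 100000
set_option synthInstance.maxSize 100000

namespace CF.Hn3

open CF.XT.Mc Equiv Equiv.Perm

abbrev P3 (w : Perm (Fin 5)) : Prop := w ^ 3 = 1 → w = 1
abbrev Nr (g a : Perm (Fin 5)) : Prop := g * a * g⁻¹ = a ∨ g * a * g⁻¹ = a⁻¹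

theorem f5a : ∀ a : Perm (Fin 5), a ^ 3 = 1 → a ≠ 1 → ∀ b, sign b = 1 → P3 b → P3 (b * (a * b * a⁻¹)) →
    P3 (b * (a * b⁻¹ * a⁻¹)) → b * b = 1 := by decide +kernel
theorem f5d : ∀ a : Perm (Fin 5), a ^ 3 = 1 → a ≠ 1 → ∀ b, b * b = 1 → sign b = 1 → b ≠ 1 →
    b * (a * b * a⁻¹) * (b * (a * b * a⁻¹)) = 1 →
      ¬ Nr b a ∧ ∀ i, i * a * i⁻¹ = a⁻¹ → sign i = 1 → ¬ Nr (b * i * (b * i)) a := by decide +kernel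
theorem f5b : ∀ a : Perm (Fin 5), a ^ 3 = 1 → a ≠ 1 → ∀ i, i * a * i⁻¹ = a⁻¹ → sign i = 1 → ∃ b, b * i = i * b ∧
    sign b = 1 ∧ b * b = 1 ∧ b ≠ 1 ∧ b ≠ i ∧ ¬ Nr b a ∧
      ∀ c, c * i = i * c → sign c = 1 → c = 1 ∨ c = i ∨ c = b ∨ c = b * i := by decide +kernel
theorem f5c : ∀ a : Perm (Fin 5), sign a = 1 → ∃ b, b ^ 3 = 1 ∧ sign b = 1 ∧ (b⁻¹ * a) ^ 3 = 1 := by decide +kernel
theorem f5e : ∀ a : Perm (Fin 5), a ^ 3 = 1 → a ≠ 1 → ∀ i, i * a * i⁻¹ = a⁻¹ → sign i = 1 → ∀ g, Nr g a → sign g = 1 →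
    g ^ 3 = 1 ∨ ∃ b, (b = 1 ∨ b = a ∨ b = a⁻¹) ∧ g = b * i := by decide +kernel

abbrev kE0 : Mt := kE 0 e1
def kE' : Mt := (e0 - e2, e1, e2, e3 - e1)
def va : V := e2 + e3
abbrev Sn (v : V) : Prop := v ≠ 0 ∧ v.1 * v.2.1 = v.2.2.1 * v.2.2.2
def wa (w : List (Fin 3)) (v : V) : V := w.foldr (fun a v => act (![kD, kU, kE0] a) v) v
def mp (m : Mt) (n : ℕ) : Mt := n.rec mI fun _ r => cmp r m

theorem wa_eq (w : List (Fin 3)) (v : V) : act (wv kE0 w) v = wa w v := by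
  induction w with
  | nil => exact aI v
  | cons a w i => exact (act_cmp _ _ _).trans (congrArg _ i)

theorem o32 : ∀ v, Sn v → ∃ w ∈ [[], [2], [1, 2], [2, 2], [0, 1, 2], [2, 1, 2], [1, 2, 2], [0, 0, 1, 2], [1, 0, 1, 2],
    [2, 0, 1, 2], [1, 2, 1, 2], [0, 1, 2, 2], [2, 1, 2, 2], [1, 0, 0, 1, 2], [2, 0, 0, 1, 2], [1, 1, 0, 1, 2],
    [2, 1, 0, 1, 2], [1, 2, 0, 1, 2], [2, 2, 0, 1, 2], [1, 1, 2, 1, 2], [1, 0, 1, 2, 2], [2, 0, 1, 2, 2],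
    [1, 2, 0, 0, 1, 2], [2, 2, 0, 0, 1, 2], [2, 2, 1, 0, 1, 2], [1, 1, 2, 0, 1, 2], [0, 1, 1, 2, 1, 2],
    [1, 2, 0, 1, 2, 2], [0, 1, 2, 0, 0, 1, 2], [1, 2, 2, 0, 0, 1, 2], [0, 0, 1, 2, 0, 0, 1, 2],
    [0, 1, 2, 2, 0, 0, 1, 2]], wa w e0 = v := by decide +kernel
theorem o48 : ∀ v, v ≠ 0 → ¬ Sn v → ∃ w ∈ [[], [0], [1], [2], [0, 0], [1, 0], [2, 0], [1, 1], [2, 1], [1, 2], [2, 2],
    [1, 0, 0], [2, 0, 0], [1, 1, 0], [2, 1, 0], [1, 2, 0], [2, 2, 0], [0, 1, 1], [1, 1, 1], [2, 1, 1], [0, 1, 2],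
    [1, 1, 2], [2, 1, 0, 0], [1, 2, 0, 0], [2, 2, 0, 0], [1, 1, 1, 0], [2, 1, 1, 0], [1, 2, 1, 0], [0, 1, 2, 0],
    [1, 1, 2, 0], [2, 1, 2, 0], [1, 2, 2, 0], [1, 0, 1, 1], [2, 0, 1, 1], [1, 2, 1, 1], [0, 0, 1, 2], [0, 1, 1, 2],
    [0, 1, 2, 0, 0], [1, 2, 2, 0, 0], [1, 2, 1, 1, 0], [0, 1, 2, 1, 0], [2, 1, 2, 1, 0], [0, 0, 1, 2, 0],
    [0, 1, 2, 2, 0], [1, 0, 0, 1, 2], [0, 0, 1, 2, 0, 0], [1, 0, 0, 1, 2, 0], [0, 1, 0, 0, 1, 2]], wa w va = v := by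
  decide +kernel
theorem hyq : ∀ k : V, ∃ a : V, Sn (a.1 • (e0 - k.1 • e0) + a.2.1 • (e1 - k.2.1 • e0) + a.2.2.1 • (e2 - k.2.2.1 • e0) +
    a.2.2.2 • (e3 - k.2.2.2 • e0)) := by decide +kernel
theorem d9 : ∀ v w : V, v - e2 = 0 ∨ pm (v - e2) e0 → w - e3 = 0 ∨ pm (w - e3) e0 → ∃ i j : Fin 3,
    act (cmp (mp kD i) (mp kF j)) e2 = v ∧ act (cmp (mp kD i) (mp kF j)) e3 = w := by decide +kernel
theorem refl9 : ∀ c : V, ∀ m, m = (e0 + c.1 • va, e1 + c.2.1 • va, e2 + c.2.2.1 • va, e3 + c.2.2.2 • va) →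
    cmp m m = mI → (∃ v, Sn v ∧ act m v = v) ∧ 9 < (Finset.univ.filter fun u => act m u = u).card := by
  simp only [forall_eq]; decide +kernel

theorem cmpN (m : Mt) : cmp m mN = cmp mN m := mt_ext fun u => by
  rw [act_cmp, act_cmp]
  have : ∀ u, act mN u = -u := by decide +kernel
  rw [this, this, act_neg]

end CF.Hn3
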